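import Mathlib
import Cfsg.Agent.Omega.NO3S.Fit.MTri.Act
import Cfsg.Agent.Lib.CoprimeCommutator
import Cfsg.Agent.Solvable.Glauberman

/-!
# The natural block: `W = U_p U_q U_r`, an element of order 3 of `N_G(V)` centralising `C_G(V) / W`

Blueprint `P21-NatBlock-helper789.md`, (A4), (A9).
-/

set_option autoImplicit false
set_option linter.unusedSectionVars false

namespace Cfsg.Agent.Omega.NO3S.Fit.MTri

open Subgroup Cfsg Cfsg.Agent.ZN Cfsg.Agent.MinSimple.Geo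
open Cfsg.Agent.Classification.TitsFin.Tri (Pt kst cj_kst K Q)
open Cfsg.Agent.ZN.Block (conj_mem_of_normalizer conj_mem_of_normalizer' le_normalizer_of_forall
  mem_normalizer_of card_sup_mul_card_inf card_mul_relIndex' mul_mem_of_relIndex_two o2_le o2_conj o2_isPGroup
  le_o2 le_normalizer_o2)

universe u

variable {G : Type u} [Group G]

/-- `W = U_p U_q U_r` -/
def WW (V : Subgroup G) (U : G → Subgroup G) : Subgroup G := ⨆ p, ⨆ (_ : Pt V p), U p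

/-- the elements of `N_G(V)` centralising `C_G(V) / W` -/
def NW (V W : Subgroup G) (hW : normalizer (V : Set G) ≤ normalizer (W : Set G)) : Subgroup G where
  carrier := {n | n ∈ normalizer (V : Set G) ∧ ∀ d ∈ centralizer (V : Set G), d * n * d⁻¹ * n⁻¹ ∈ W}
  mul_mem' := by
    rintro m n ⟨hm, hm2⟩ ⟨hn, hn2⟩
    refine ⟨mul_mem hm hn, fun d hd => ?_⟩
    have e : d * (m * n) * d⁻¹ * (m * n)⁻¹ = (d * m * d⁻¹ * m⁻¹) * (m * (d * n * d⁻¹ * n⁻¹) * m⁻¹) := by group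
    rw [e]
    exact mul_mem (hm2 d hd) (conj_mem_of_normalizer hW hm (hn2 d hd))
  one_mem' := ⟨one_mem _, fun d _ => by simp⟩
  inv_mem' := by
    rintro m ⟨hm, hm2⟩
    refine ⟨inv_mem hm, fun d hd => ?_⟩
    have e : d * m⁻¹ * d⁻¹ * m⁻¹⁻¹ = m⁻¹ * (d * m * d⁻¹ * m⁻¹)⁻¹ * m := by group
    rw [e]
    exact conj_mem_of_normalizer' hW hm (inv_mem (hm2 d hd))

/-- the three points -/
structure Tr (V : Subgroup G) (p q r : G) : Prop where
  hp : Pt V p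
  hq : Pt V q
  hr : Pt V r
  npq : p ≠ q
  npr : p ≠ r
  nqr : q ≠ r
  eq : p * q = r

/-- the commutator `[d, a]` -/
def dl (d a : G) : G := d * a * d⁻¹ * a⁻¹

namespace NTri

variable {V : Subgroup G} {U C : G → Subgroup G}

variable (h : NTri V U C) {p q r : G}

include h

theorem tr (hp : Pt V p) (hq : Pt V q) (hpq : p ≠ q) : Tr V p q (p * q) := by
  obtain ⟨h1, h2, h3⟩ := h.third hp hq hpq
  exact ⟨hp, hq, h1, hpq, h2.symm, h3.symm, rfl⟩

theorem rot (t : Tr V p q r) : Tr V q r p := by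
  refine ⟨t.hq, t.hr, t.hp, t.nqr, t.npq.symm, t.npr.symm, ?_⟩
  rw [← t.eq, h.commV t.hp t.hq, ← mul_assoc, h.pp t.hq, one_mul]

theorem swp (t : Tr V p q r) : Tr V q p r :=
  ⟨t.hq, t.hp, t.hr, t.npq.symm, t.nqr, t.npr, by rw [← t.eq, h.commV t.hq t.hp]⟩

theorem comm' (t : Tr V p q r) {a b : G} (ha : a ∈ U p) (haV : a ∉ V) (hb : b ∈ U q) (hbV : b ∉ V) :
    a * b * a⁻¹ * b⁻¹ = r := by rw [← t.eq]; exact h.comm_eq t.hp t.hq t.npq ha haV hb hbV

theorem conj' (t : Tr V p q r) {a b : G} (ha : a ∈ U p) (haV : a ∉ V) (hb : b ∈ U q) (hbV : b ∉ V) :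
    a * b * a⁻¹ = r * b := by rw [← h.comm' t ha haV hb hbV]; group

theorem swap' (t : Tr V p q r) {a b : G} (ha : a ∈ U p) (haV : a ∉ V) (hb : b ∈ U q) (hbV : b ∉ V) :
    a * b = r * (b * a) := by rw [← h.comm' t ha haV hb hbV]; group

theorem mem_V' (t : Tr V p q r) {v : G} (hv : v ∈ V) : v = 1 ∨ v = p ∨ v = q ∨ v = r := by
  rw [← t.eq]; exact h.mem_V t.hp t.hq t.npq hv

theorem vcomm {v d : G} (hv : v ∈ V) (hd : d ∈ centralizer (V : Set G)) : v * d = d * v :=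
  mem_centralizer_iff.mp hd v hv

theorem V_comm {v w : G} (hv : v ∈ V) (hw : w ∈ V) : v * w = w * v := by
  have h1 := inv_eq_self (h.sqV v hv)
  have h2 := inv_eq_self (h.sqV w hw)
  have h3 := inv_eq_self (h.sqV _ (mul_mem hv hw))
  rw [mul_inv_rev, h1, h2] at h3
  exact h3.symm

theorem V_le_centV : V ≤ centralizer (V : Set G) := fun _ hv => mem_centralizer_iff.mpr fun _ hw =>
  h.V_comm hw hv

/-! ### the group `W` -/

theorem U_le_W (hp : Pt V p) : U p ≤ WW V U := le_iSup₂_of_le p hp le_rfl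

theorem V_le_W (hp : Pt V p) : V ≤ WW V U := (h.V_le p hp).trans (h.U_le_W hp)

theorem W_le {X : Subgroup G} (hX : ∀ p, Pt V p → U p ≤ X) : WW V U ≤ X := iSup₂_le hX

theorem W_le_centV : WW V U ≤ centralizer (V : Set G) := h.W_le fun _ hp => h.U_le_centV hp

theorem pt_conj {n : G} (hn : n ∈ normalizer (V : Set G)) (hp : Pt V p) : Pt V (n * p * n⁻¹) := by
  refine ⟨(mem_normalizer_iff.mp hn p).mp hp.1, fun e => hp.2 ?_⟩
  rw [mul_inv_eq_one] at e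
  exact mul_eq_left.mp e

theorem conj_V {n v : G} (hn : n ∈ normalizer (V : Set G)) (hv : v ∈ V) : n * v * n⁻¹ ∈ V :=
  (mem_normalizer_iff.mp hn v).mp hv

theorem conj_notV {n v : G} (hn : n ∈ normalizer (V : Set G)) (hv : v ∉ V) : n * v * n⁻¹ ∉ V :=
  fun e => hv ((mem_normalizer_iff.mp hn v).mpr e)

theorem conj_U {n v : G} (hn : n ∈ normalizer (V : Set G)) (hp : Pt V p) (hv : v ∈ U p) :
    n * v * n⁻¹ ∈ U (n * p * n⁻¹) := by
  rw [← h.conjU n hn p hp]; exact ⟨v, hv, rfl⟩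

theorem norm_W : normalizer (V : Set G) ≤ normalizer (WW V U : Set G) := by
  refine le_normalizer_of_forall fun n hn x hx => ?_
  have h1 : WW V U ≤ cj n⁻¹ (WW V U) := by
    refine h.W_le fun p hp y hy => ?_
    rw [mem_cj]
    have h2 : n⁻¹⁻¹ * y * n⁻¹ ∈ U (n * p * n⁻¹) := by rw [inv_inv]; exact h.conj_U hn hp hy
    exact h.U_le_W (h.pt_conj hn hp) h2
  have h2 := mem_cj.mp (h1 hx)
  rwa [inv_inv] at h2

theorem W_eq (t : Tr V p q r) : WW V U = (U p ⊔ U q) ⊔ U r := by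
  apply le_antisymm
  · refine h.W_le fun x hx => ?_
    rcases h.mem_V' t hx.1 with e | e | e | e
    · exact absurd e hx.2
    · rw [e]; exact le_sup_left.trans le_sup_left
    · rw [e]; exact le_sup_right.trans le_sup_left
    · rw [e]; exact le_sup_right
  · exact sup_le (sup_le (h.U_le_W t.hp) (h.U_le_W t.hq)) (h.U_le_W t.hr)

theorem U_norm_U (hp : Pt V p) (hq : Pt V q) : U p ≤ normalizer (U q : Set G) :=
  (h.U_le_C hq hp).trans (h.C_norm q hq)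

theorem exists_mul (t : Tr V p q r) {x : G} (hx : x ∈ WW V U) :
    ∃ x1 ∈ U p, ∃ x2 ∈ U q, ∃ x3 ∈ U r, x = x1 * x2 * x3 := by
  rw [h.W_eq t, sup_comm] at hx
  have hn : U r ≤ normalizer ((U p ⊔ U q : Subgroup G) : Set G) := by
    refine le_normalizer_of_forall fun n hn x hx => ?_
    have h1 : U p ⊔ U q ≤ cj n⁻¹ (U p ⊔ U q) := by
      refine sup_le (fun y hy => ?_) (fun y hy => ?_)
      · rw [mem_cj, inv_inv]
        exact (le_sup_left : U p ≤ U p ⊔ U q) (conj_mem_of_normalizer (h.U_norm_U t.hr t.hp) hn hy)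
      · rw [mem_cj, inv_inv]
        exact (le_sup_right : U q ≤ U p ⊔ U q) (conj_mem_of_normalizer (h.U_norm_U t.hr t.hq) hn hy)
    have h2 := mem_cj.mp (h1 hx)
    rwa [inv_inv] at h2
  obtain ⟨y, hy, x3, hx3, rfl⟩ := Cfsg.Agent.Solvable.Glauberman.exists_mul_of_mem_sup _ _ hn hx
  rw [sup_comm] at hy
  obtain ⟨x1, hx1, x2, hx2, rfl⟩ :=
    Cfsg.Agent.Solvable.Glauberman.exists_mul_of_mem_sup _ _ (h.U_norm_U t.hq t.hp) hy
  exact ⟨x1, hx1, x2, hx2, x3, hx3, rfl⟩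

/-- elements of `U p ∖ V` are congruent modulo `V` -/
theorem exists_V (hp : Pt V p) {a a' : G} (ha : a ∈ U p) (haV : a ∉ V) (ha' : a' ∈ U p) (haV' : a' ∉ V) :
    ∃ v ∈ V, a' = v * a := by
  refine ⟨a' * a, h.mul_memV hp ha' haV' ha haV, ?_⟩
  rw [mul_assoc, h.sqU p hp a ha, mul_one]

/-- every element of `W` is `a^i b^j c^k v` -/
theorem exists_form (t : Tr V p q r) {a b c : G} (ha : a ∈ U p) (haV : a ∉ V) (hb : b ∈ U q) (hbV : b ∉ V)
    (hc : c ∈ U r) (hcV : c ∉ V) {x : G} (hx : x ∈ WW V U) :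
    ∃ x1 x2 x3 v : G, (x1 = 1 ∨ x1 = a) ∧ (x2 = 1 ∨ x2 = b) ∧ (x3 = 1 ∨ x3 = c) ∧ v ∈ V ∧
      x = v * (x1 * x2 * x3) := by
  obtain ⟨y1, hy1, y2, hy2, y3, hy3, rfl⟩ := h.exists_mul t hx
  have key : ∀ {p a y : G}, Pt V p → a ∈ U p → a ∉ V → y ∈ U p → ∃ x v : G, (x = 1 ∨ x = a) ∧ v ∈ V ∧ y = v * x := by
    intro p a y hp ha haV hy
    by_cases hyV : y ∈ V
    · exact ⟨1, y, Or.inl rfl, hyV, by rw [mul_one]⟩
    · obtain ⟨v, hv, e⟩ := h.exists_V hp ha haV hy hyV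
      exact ⟨a, v, Or.inr rfl, hv, e⟩
  obtain ⟨x1, v1, h1, hv1, rfl⟩ := key t.hp ha haV hy1
  obtain ⟨x2, v2, h2, hv2, rfl⟩ := key t.hq hb hbV hy2
  obtain ⟨x3, v3, h3, hv3, rfl⟩ := key t.hr hc hcV hy3
  refine ⟨x1, x2, x3, v1 * v2 * v3, h1, h2, h3, mul_mem (mul_mem hv1 hv2) hv3, ?_⟩
  have hx1 : x1 ∈ centralizer (V : Set G) := by
    rcases h1 with rfl | rfl
    · exact one_mem _
    · exact h.U_le_centV t.hp ha
  have hx2 : x2 ∈ centralizer (V : Set G) := by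
    rcases h2 with rfl | rfl
    · exact one_mem _
    · exact h.U_le_centV t.hq hb
  have e1 := h.vcomm hv2 hx1
  have e2 := h.vcomm hv3 hx1
  have e3 := h.vcomm hv3 hx2
  calc v1 * x1 * (v2 * x2) * (v3 * x3) = v1 * (x1 * v2) * (x2 * v3) * x3 := by group
    _ = v1 * v2 * (x1 * v3) * x2 * x3 := by rw [← e1, ← e3]; group
    _ = v1 * v2 * v3 * (x1 * x2 * x3) := by rw [← e2]; group

theorem dl_mul {a d d' : G} (hp : Pt V p) (ha : a ∈ U p) (hd : d ∈ centralizer (V : Set G))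
    (hd' : d' ∈ centralizer (V : Set G)) : dl (d * d') a = dl d a * dl d' a := by
  have h1 : dl d' a ∈ V := h.D_act hp hd' ha
  have h2 := h.vcomm h1 hd
  have h3 := h.V_comm h1 (h.D_act hp hd ha)
  unfold dl at *
  calc d * d' * a * (d * d')⁻¹ * a⁻¹ = d * (d' * a * d'⁻¹ * a⁻¹) * (a * d⁻¹ * a⁻¹) := by group
    _ = (d' * a * d'⁻¹ * a⁻¹) * (d * a * d⁻¹ * a⁻¹) := by rw [← h2]; group
    _ = (d * a * d⁻¹ * a⁻¹) * (d' * a * d'⁻¹ * a⁻¹) := h3

theorem dl_mem {a d : G} (hp : Pt V p) (ha : a ∈ U p) (hd : d ∈ centralizer (V : Set G)) : dl d a ∈ V :=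
  h.D_act hp hd ha

theorem dl_one (a : G) : dl 1 a = 1 := by unfold dl; group

theorem dl_V {a v : G} (hp : Pt V p) (ha : a ∈ U p) (hv : v ∈ V) : dl v a = 1 := by
  unfold dl
  rw [h.vcomm hv (h.U_le_centV hp ha)]; group

theorem dl_self (a : G) : dl a a = 1 := by unfold dl; group

theorem dl_eq_one {d a : G} : dl d a = 1 ↔ d * a = a * d := by
  unfold dl
  rw [mul_inv_eq_one, mul_inv_eq_iff_eq_mul]

/-- `Z(W) = V` -/
theorem W_inf_cent (t : Tr V p q r) {x : G} (hx : x ∈ WW V U) (hc : ∀ y ∈ WW V U, x * y = y * x) : x ∈ V := by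
  obtain ⟨a, ha, haV⟩ := h.exists_notMem t.hp
  obtain ⟨b, hb, hbV⟩ := h.exists_notMem t.hq
  obtain ⟨c, hcU, hcV⟩ := h.exists_notMem t.hr
  obtain ⟨x1, x2, x3, v, h1, h2, h3, hv, rfl⟩ := h.exists_form t ha haV hb hbV hcU hcV hx
  have Ra : dl b a = r := h.comm' (h.swp t) hb hbV ha haV
  have Rc : dl c a = q := h.comm' (h.rot (h.rot t)) hcU hcV ha haV
  have Rb : dl a b = r := h.comm' t ha haV hb hbV
  have Ea : dl (v * (x1 * x2 * x3)) a = 1 := h.dl_eq_one.mpr (hc a (h.U_le_W t.hp ha))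
  have Eb : dl (v * (x1 * x2 * x3)) b = 1 := h.dl_eq_one.mpr (hc b (h.U_le_W t.hq hb))
  have da := h.U_le_centV t.hp ha
  have db := h.U_le_centV t.hq hb
  have dc := h.U_le_centV t.hr hcU
  have dv := h.V_le_centV hv
  have o : ∀ {x y : G}, (x = 1 ∨ x = y) → y ∈ centralizer (V : Set G) → x ∈ centralizer (V : Set G) := by
    rintro x y (rfl | rfl) hy
    · exact one_mem _
    · exact hy
  have d1 := o h1 da
  have d2 := o h2 db
  have d3 := o h3 dc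
  rw [h.dl_mul t.hp ha dv (mul_mem (mul_mem d1 d2) d3), h.dl_V t.hp ha hv, one_mul,
    h.dl_mul t.hp ha (mul_mem d1 d2) d3, h.dl_mul t.hp ha d1 d2] at Ea
  rw [h.dl_mul t.hq hb dv (mul_mem (mul_mem d1 d2) d3), h.dl_V t.hq hb hv, one_mul,
    h.dl_mul t.hq hb (mul_mem d1 d2) d3, h.dl_mul t.hq hb d1 d2] at Eb
  have e1 : dl x1 a = 1 := by
    rcases h1 with rfl | rfl
    · exact h.dl_one a
    · exact h.dl_self _
  rw [e1, one_mul] at Ea
  have e23 : x2 = 1 ∧ x3 = 1 := by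
    rcases h2 with rfl | rfl
    · rcases h3 with rfl | rfl
      · exact ⟨rfl, rfl⟩
      · rw [h.dl_one, one_mul, Rc] at Ea
        exact absurd Ea t.hq.2
    · rw [Ra] at Ea
      rcases h3 with rfl | rfl
      · rw [h.dl_one, mul_one] at Ea
        exact absurd Ea t.hr.2
      · rw [Rc, ← t.eq, mul_assoc, h.pp t.hq, mul_one] at Ea
        exact absurd Ea t.hp.2
  rw [e23.1, e23.2, h.dl_one, mul_one, mul_one] at Eb
  rw [e23.1, e23.2, mul_one, mul_one]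
  rcases h1 with rfl | rfl
  · rw [mul_one]; exact hv
  · rw [Rb] at Eb
    exact absurd Eb t.hr.2

/-! ### elements of `C p` fixing the class of `q` -/

theorem swap_class (hp : Pt V p) {c u w : G} (hc : c ∈ C p) (hcQ : c ∉ Q U C p) (hu : u ∈ U p)
    (hu1 : ¬ Cg p u 1) (h1 : Cg p (c * u * c⁻¹) u) (hw : w ∈ U p) (hw1 : ¬ Cg p w 1) (hwu : ¬ Cg p w u) :
    Cg p (c * w * c⁻¹) (u * w) := by
  have hpp := h.pp hp
  rcases h.four hp hu hu1 hw hw1 hwu (h.conj_memU hp hc hw) with e | e | e | e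
  · exact absurd e (h.conj_notCg hp hc hw1)
  · exact absurd ((e.trans hpp (h1.symm hpp)).of_conj (h.c_comm hp hc)) hwu
  · exact absurd (h.mem_Q_of_fix hp hc hu hu1 hw hw1 hwu h1 e) hcQ
  · exact e

theorem mul_mem_Q (hp : Pt V p) {c d u : G} (hc : c ∈ C p) (hcQ : c ∉ Q U C p) (hd : d ∈ C p)
    (hdQ : d ∉ Q U C p) (hu : u ∈ U p) (hu1 : ¬ Cg p u 1) (h1 : Cg p (c * u * c⁻¹) u)
    (h2 : Cg p (d * u * d⁻¹) u) : c * d ∈ Q U C p := by
  have hpp := h.pp hp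
  have hcp := h.c_comm hp hc
  obtain ⟨w, hw, hw1, hwu⟩ := h.exists_indep hp hu hu1
  have a1 := h.swap_class hp hc hcQ hu hu1 h1 hw hw1 hwu
  have a2 := h.swap_class hp hd hdQ hu hu1 h2 hw hw1 hwu
  have e : ∀ x : G, c * d * x * (c * d)⁻¹ = c * (d * x * d⁻¹) * c⁻¹ := fun x => by group
  refine h.mem_Q_of_fix hp (mul_mem hc hd) hu hu1 hw hw1 hwu ?_ ?_
  · rw [e]; exact (h2.conj hcp).trans hpp h1
  · rw [e]
    have b1 := (a2.conj hcp).trans hpp (h.mul_conj hp hu h1 a1)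
    have e3 : u * (u * w) = w := by rw [← mul_assoc, h.sqU p hp u hu, one_mul]
    rwa [e3] at b1

theorem fix_of_centV {d : G} (hd : d ∈ centralizer (V : Set G)) {v : G} (hv : v ∈ V) : d * v * d⁻¹ = v := by
  rw [← h.vcomm hv hd, mul_inv_cancel_right]

/-- two elements of `C_G(V)` outside `Q p` -/
theorem mul_mem_Q' (hp : Pt V p) {c d : G} (hc : c ∈ centralizer (V : Set G)) (hcQ : c ∉ Q U C p)
    (hd : d ∈ centralizer (V : Set G)) (hdQ : d ∉ Q U C p) : c * d ∈ Q U C p := by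
  obtain ⟨q, hq, hpq⟩ := h.exists_other hp
  exact h.mul_mem_Q hp (h.centV_le hp hc) hcQ (h.centV_le hp hd) hdQ (h.p_mem hq hp) (h.not_cg hq hpq)
    (Or.inl (h.fix_of_centV hc hq.1)) (Or.inl (h.fix_of_centV hd hq.1))

theorem e_mem_Q (t : Tr V p q r) {b c : G} (hb : b ∈ U q) (hbV : b ∉ V) (hc : c ∈ U r) (hcV : c ∉ V) :
    b * c ∈ Q U C p :=
  h.mul_mem_Q' t.hp (h.U_le_centV t.hq hb) (h.notMem_Q t.hp t.hq t.npq hb hbV) (h.U_le_centV t.hr hc)
    (h.notMem_Q t.hp t.hr t.npr hc hcV)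

/-- `(u_q u_r)² = p` -/
theorem e_sq (t : Tr V p q r) {b c : G} (hb : b ∈ U q) (hbV : b ∉ V) (hc : c ∈ U r) (hcV : c ∉ V) :
    b * c * (b * c) = p := by
  have h1 := h.swap' (h.swp (h.rot t)) hc hcV hb hbV
  have h2 := h.vcomm t.hp.1 (h.U_le_centV t.hq hb)
  calc b * c * (b * c) = b * (c * b) * c := by group
    _ = b * (p * (b * c)) * c := by rw [h1]
    _ = (b * p) * b * c * c := by group
    _ = p * (b * b) * (c * c) := by rw [← h2]; group
    _ = p := by rw [h.sqU q t.hq b hb, h.sqU r t.hr c hc, mul_one, mul_one]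

theorem dl_e (t : Tr V p q r) {a b c : G} (ha : a ∈ U p) (haV : a ∉ V) (hb : b ∈ U q) (hbV : b ∉ V)
    (hc : c ∈ U r) (hcV : c ∉ V) : dl (b * c) a = p := by
  rw [h.dl_mul t.hp ha (h.U_le_centV t.hq hb) (h.U_le_centV t.hr hc)]
  have Ra : dl b a = r := h.comm' (h.swp t) hb hbV ha haV
  have Rc : dl c a = q := h.comm' (h.rot (h.rot t)) hc hcV ha haV
  rw [Ra, Rc, ← t.eq, mul_assoc, h.pp t.hq, mul_one]

theorem fix_or_swap (t : Tr V p q r) {n : G} (hn : n ∈ normalizer (V : Set G)) (hnp : n * p * n⁻¹ = p) :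
    (n ∈ centralizer (V : Set G) ∧ n * q * n⁻¹ = q ∧ n * r * n⁻¹ = r) ∨
      (n * q * n⁻¹ = r ∧ n * r * n⁻¹ = q) := by
  have e : n * r * n⁻¹ = (n * p * n⁻¹) * (n * q * n⁻¹) := by rw [← t.eq]; group
  rw [hnp] at e
  rcases h.mem_V' t (h.conj_V hn t.hq.1) with e1 | e1 | e1 | e1
  · exact absurd e1 (h.pt_conj hn t.hq).2
  · exfalso
    apply t.npq
    have h1 := hnp.trans e1.symm
    exact mul_left_cancel (mul_right_cancel h1)
  · left
    have e2 : n * r * n⁻¹ = r := by rw [e, e1, t.eq]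
    refine ⟨mem_centralizer_iff.mpr fun v hv => ?_, e1, e2⟩
    have key : n * v * n⁻¹ = v := by
      rcases h.mem_V' t hv with rfl | rfl | rfl | rfl
      · rw [mul_one, mul_inv_cancel]
      · exact hnp
      · exact e1
      · exact e2
    exact (mul_inv_eq_iff_eq_mul.mp key).symm
  · right
    refine ⟨e1, ?_⟩
    rw [e, e1, ← t.eq, ← mul_assoc, h.pp t.hp, one_mul]

/-- `[Q_p, u_q u_r] ≤ V` -/
theorem comm_Q_e (t : Tr V p q r) {b c x : G} (hb : b ∈ U q) (hbV : b ∉ V) (hc : c ∈ U r) (hcV : c ∉ V)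
    (hx : x ∈ Q U C p) : x * (b * c) * x⁻¹ * (b * c)⁻¹ ∈ V := by
  have hxN := h.Q_le_normV t.hp t.hq t.npq hx
  have hxp : x * p * x⁻¹ = p := by
    rw [h.c_comm t.hp ((h.mem_Q_iff t.hp).mp hx).1, mul_inv_cancel_right]
  have db := h.U_le_centV t.hq hb
  have dc := h.U_le_centV t.hr hc
  have hb' := h.conj_U hxN t.hq hb
  have hc' := h.conj_U hxN t.hr hc
  have hbV' := h.conj_notV hxN hbV
  have hcV' := h.conj_notV hxN hcV
  have e : x * (b * c) * x⁻¹ * (b * c)⁻¹ = (x * b * x⁻¹) * (x * c * x⁻¹) * c⁻¹ * b⁻¹ := by group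
  rw [e]
  rcases h.fix_or_swap t hxN hxp with ⟨-, e1, e2⟩ | ⟨e1, e2⟩
  · rw [e1] at hb'
    rw [e2] at hc'
    obtain ⟨v, hv, ev⟩ := h.exists_V t.hq hb hbV hb' hbV'
    obtain ⟨w, hw, ew⟩ := h.exists_V t.hr hc hcV hc' hcV'
    rw [ev, ew]
    have e3 : v * b * (w * c) * c⁻¹ * b⁻¹ = v * (b * w) * b⁻¹ := by group
    rw [e3, ← h.vcomm hw db]
    have e4 : v * (w * b) * b⁻¹ = v * w := by group
    rw [e4]
    exact mul_mem hv hw
  · rw [e1] at hb'
    rw [e2] at hc'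
    obtain ⟨v, hv, ev⟩ := h.exists_V t.hr hc hcV hb' hbV'
    obtain ⟨w, hw, ew⟩ := h.exists_V t.hq hb hbV hc' hcV'
    rw [ev, ew]
    have h1 := h.swap' (h.swp (h.rot t)) hc hcV hb hbV
    have e3 : v * c * (w * b) * c⁻¹ * b⁻¹ = v * (c * w) * b * c⁻¹ * b⁻¹ := by group
    rw [e3, ← h.vcomm hw dc]
    have e4 : v * (w * c) * b * c⁻¹ * b⁻¹ = v * w * (c * b) * c⁻¹ * b⁻¹ := by group
    rw [e4, h1]
    have e5 : v * w * (p * (b * c)) * c⁻¹ * b⁻¹ = v * w * p := by group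
    rw [e5]
    exact mul_mem (mul_mem hv hw) t.hp.1

/-- (A9) -/
theorem exists_h (t : Tr V p q r) : ∃ x ∈ NW V (WW V U) h.norm_W, x ∈ Q U C p ∧ x * p * x⁻¹ = p ∧
    x * q * x⁻¹ = r ∧ x * r * x⁻¹ = q ∧ x * x = p := by
  obtain ⟨a, ha, haV⟩ := h.exists_notMem t.hp
  obtain ⟨b, hb, hbV⟩ := h.exists_notMem t.hq
  obtain ⟨c, hc, hcV⟩ := h.exists_notMem t.hr
  obtain ⟨f, hf, -, hfm⟩ := h.exists_odd t.hp
  have heQ := h.e_mem_Q t hb hbV hc hcV
  have hfC : f⁻¹ ∈ C p := inv_mem hf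
  have hxQ : f * (b * c) * f⁻¹ ∈ Q U C p := conj_mem_of_normalizer (h.C_le_normQ t.hp) hf heQ
  set x := f * (b * c) * f⁻¹ with hx
  have hxN := h.Q_le_normV t.hp t.hq t.npq hxQ
  have hxp : x * p * x⁻¹ = p := by
    rw [h.c_comm t.hp ((h.mem_Q_iff t.hp).mp hxQ).1, mul_inv_cancel_right]
  have hxx : x * x = p := by
    have : x * x = f * (b * c * (b * c)) * f⁻¹ := by rw [hx]; group
    rw [this, h.e_sq t hb hbV hc hcV, h.c_comm t.hp hf, mul_inv_cancel_right]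
  -- `[Q_p, x] ≤ U_p`
  have hQx : ∀ y ∈ Q U C p, y * x * y⁻¹ * x⁻¹ ∈ U p := by
    intro y hy
    have h1 := h.comm_Q_e t hb hbV hc hcV (conj_mem_of_normalizer' (h.C_le_normQ t.hp) hf hy)
    have h2 := h.conj_memU t.hp hf (h.V_le p t.hp h1)
    have e : f * ((f⁻¹ * y * f) * (b * c) * (f⁻¹ * y * f)⁻¹ * (b * c)⁻¹) * f⁻¹ = y * x * y⁻¹ * x⁻¹ := by
      rw [hx]; group
    rwa [e] at h2
  refine ⟨x, ⟨hxN, fun d hd => ?_⟩, hxQ, hxp, ?_⟩
  · by_cases hdQ : d ∈ Q U C p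
    · exact h.U_le_W t.hp (hQx d hdQ)
    · have db := h.U_le_centV t.hq hb
      have h1 := h.mul_mem_Q' t.hp db (h.notMem_Q t.hp t.hq t.npq hb hbV) hd hdQ
      have h2 := h.U_le_W t.hp (hQx _ h1)
      have hbW := h.U_le_W t.hq hb
      have e : d * x * d⁻¹ * x⁻¹ = b⁻¹ * ((b * d) * x * (b * d)⁻¹ * x⁻¹) * (x * b * x⁻¹) := by group
      rw [e]
      exact mul_mem (mul_mem (inv_mem hbW) h2) (conj_mem_of_normalizer h.norm_W hxN hbW)
  · rcases h.fix_or_swap t hxN hxp with ⟨h1, -, -⟩ | ⟨h1, h2⟩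
    · exfalso
      -- `b c` commutes with `f⁻¹ q f ∉ V`
      have h2 := h.vcomm t.hq.1 h1
      have hu : f⁻¹ * q * f ∈ U p := h.conj_memU' t.hp hf (h.p_mem t.hq t.hp)
      have huV : f⁻¹ * q * f ∉ V := by
        intro e
        refine h.conj_notMem_V t.hp t.hq t.npq hf hfm e ?_ ?_
        · intro e1
          have := h.conj_notCg t.hp hfC (h.not_cg t.hq t.npq)
          rw [inv_inv] at this
          exact this e1
        · have e2 : f * (f⁻¹ * q * f) * f⁻¹ = q := by group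
          rw [e2]; exact t.hq.1
      have h3 := h.dl_e t hu huV hb hbV hc hcV
      have h4 : dl (b * c) (f⁻¹ * q * f) = 1 := by
        rw [h.dl_eq_one]
        have e3 : b * c = f⁻¹ * x * f := by rw [hx]; group
        rw [e3]
        calc f⁻¹ * x * f * (f⁻¹ * q * f) = f⁻¹ * (x * q) * f := by group
          _ = f⁻¹ * (q * x) * f := by rw [h2]
          _ = f⁻¹ * q * f * (f⁻¹ * x * f) := by group
      exact t.hp.2 (h3.symm.trans h4)
    · exact ⟨h1, h2, hxx⟩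

end NTri

end Cfsg.Agent.Omega.NO3S.Fit.MTri
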