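import Cfsg.Agent.Omega.NO3S.Fit.MTri.End
import Cfsg.Agent.SectRankFour.C2.Fin64Iso
import Cfsg.Agent.SectRankFour.C2.FinAutModel
import Cfsg.Agent.MTwelveType.Base

/-!
# The natural block, K-free: the involutions of `K_p` lie in `U_p`; `C_G(p)` normalises `U_p`

helper311 #13963, section 5, (A13).
-/

set_option autoImplicit false
set_option linter.unusedSectionVars false

namespace Cfsg.Agent.Omega.NO3S.Fit.MTri

open Subgroup Cfsg Cfsg.Agent.ZN Cfsg.Agent.MinSimple.Geo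
open Cfsg.Agent.Classification.TitsFin.Tri (Pt kst cj_kst K Q)
open Cfsg.Agent.SectRankFour.C2.Defs (Conf64 Conf128)
open Cfsg.Agent.ZN.Block (conj_mem_of_normalizer conj_mem_of_normalizer' le_normalizer_of_forall
  mem_normalizer_of card_sup_mul_card_inf card_mul_relIndex' mul_mem_of_relIndex_two o2_le o2_conj o2_isPGroup
  le_o2 le_normalizer_o2)

universe u

section Model

open Cfsg.Agent.ClassificationK.GTwoModel Cfsg.Agent.ClassificationK.GTwoModel.T Cfsg.Agent.MTwelveType.Base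

set_option synthInstance.maxSize 1000 in
set_option maxRecDepth 100000 in
theorem model64 : ∀ k : T (2 * 2), k * a' 2 = a' 2 * k → k * b' 2 = b' 2 * k →
    k * (t 2 * (⟨1, 0, false, false⟩ * ⟨0, 1, false, false⟩)) =
      (t 2 * (⟨1, 0, false, false⟩ * ⟨0, 1, false, false⟩)) * k →
    k = 1 ∨ k = a' 2 ∨ k = b' 2 ∨ k = a' 2 * b' 2 ∨
      k = t 2 * (⟨1, 0, false, false⟩ * ⟨0, 1, false, false⟩) ∨
      k = a' 2 * (t 2 * (⟨1, 0, false, false⟩ * ⟨0, 1, false, false⟩)) ∨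
      k = b' 2 * (t 2 * (⟨1, 0, false, false⟩ * ⟨0, 1, false, false⟩)) ∨
      k = a' 2 * b' 2 * (t 2 * (⟨1, 0, false, false⟩ * ⟨0, 1, false, false⟩)) := by decide

end Model

section Model2

open Cfsg.Agent.SectRankFour.C2.FinAut

set_option maxRecDepth 100000 in
theorem model128' : ∀ m < 128, (mul m 2 == mul 2 m && mul m 8 == mul 8 m && mul m 31 == mul 31 m &&
    mul m m == 0) = true → (m == 0 || m == 2 || m == 8 || m == mul 2 8 || m == 31 || m == mul 2 31 ||
      m == mul 8 31 || m == mul (mul 2 8) 31) = true := by decide +kernel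

theorem model128 (m : ℕ) (hm : m < 128) (h1 : mul m 2 = mul 2 m) (h2 : mul m 8 = mul 8 m)
    (h3 : mul m 31 = mul 31 m) (h4 : mul m m = 0) : m = 0 ∨ m = 2 ∨ m = 8 ∨ m = mul 2 8 ∨ m = 31 ∨
      m = mul 2 31 ∨ m = mul 8 31 ∨ m = mul (mul 2 8) 31 := by
  have h := model128' m hm (by simp [h1, h2, h3, h4])
  simpa [or_assoc] using h

end Model2

variable {G : Type u} [Group G]

/-- `|S| = 64`: an element of `S` centralising `a², b², uab` is in the subgroup generated by them -/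
theorem mem_of_conf64 {S P1 X : Subgroup G} {a b u s x : G} (h : Conf64 S P1 a b u s x) {k : G}
    (hk : k ∈ S) (h1 : k * a ^ 2 = a ^ 2 * k) (h2 : k * b ^ 2 = b ^ 2 * k)
    (h3 : k * (u * (a * b)) = (u * (a * b)) * k) (x1 : a ^ 2 ∈ X) (x2 : b ^ 2 ∈ X)
    (x3 : u * (a * b) ∈ X) : k ∈ X := by
  open Cfsg.Agent.MTwelveType.Base in
  obtain ⟨f, hinj, hrange, hfa, hfb, hfu, -⟩ := Cfsg.Agent.SectRankFour.C2.Fin64Iso.exists_hom h
  rw [← hrange] at hk
  obtain ⟨k, rfl⟩ := hk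
  have ea : f (ClassificationK.GTwoModel.T.a' 2) = a ^ 2 := by
    rw [← hfa, ← map_pow]; exact congrArg f (by decide)
  have eb : f (ClassificationK.GTwoModel.T.b' 2) = b ^ 2 := by
    rw [← hfb, ← map_pow]; exact congrArg f (by decide)
  rw [← ea] at h1 x1
  rw [← eb] at h2 x2
  rw [← hfa, ← hfb, ← hfu, ← map_mul, ← map_mul] at h3 x3
  rw [← map_mul, ← map_mul] at h1 h2 h3
  rcases model64 k (hinj h1) (hinj h2) (hinj h3) with e | e | e | e | e | e | e | e
  · rw [e, map_one]; exact one_mem _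
  · rw [e]; exact x1
  · rw [e]; exact x2
  · rw [e, map_mul]; exact mul_mem x1 x2
  · rw [e]; exact x3
  · rw [e, map_mul]; exact mul_mem x1 x3
  · rw [e, map_mul]; exact mul_mem x2 x3
  · rw [e, map_mul, map_mul]; exact mul_mem (mul_mem x1 x2) x3

/-- `|S| = 128`: an involution of `S` centralising `a², b², uab` is in the subgroup generated by them -/
theorem mem_of_conf128 {S P1 X : Subgroup G} {a b u f s x : G} (h : Conf128 S P1 a b u f s x) {k : G}
    (hk : k ∈ S) (h1 : k * a ^ 2 = a ^ 2 * k) (h2 : k * b ^ 2 = b ^ 2 * k)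
    (h3 : k * (u * (a * b)) = (u * (a * b)) * k) (hkk : k * k = 1) (x1 : a ^ 2 ∈ X) (x2 : b ^ 2 ∈ X)
    (x3 : u * (a * b) ∈ X) : k ∈ X := by
  open Cfsg.Agent.SectRankFour.C2.FinAut in
  obtain ⟨m, hm, rfl⟩ := exists_psi h hk
  have ea : psi a b u f s 2 = a ^ 2 := by simp [psi, phi, dec]
  have eb : psi a b u f s 8 = b ^ 2 := by simp [psi, phi, dec]
  have ey : psi a b u f s 31 = u * (a * b) := by
    have : (31 : ℕ) = mul 16 (mul 1 4) := by decide +kernel
    rw [this, psi_mul h, psi_mul h, psi_a, psi_b, psi_u]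
  rw [← ea] at h1 x1
  rw [← eb] at h2 x2
  rw [← ey] at h3 x3
  rw [← psi_mul h, ← psi_mul h] at h1 h2 h3
  rw [← psi_mul h, ← psi_zero a b u f s] at hkk
  have k1 := psi_inj h (mul_lt _ _) (mul_lt _ _) h1
  have k2 := psi_inj h (mul_lt _ _) (mul_lt _ _) h2
  have k3 := psi_inj h (mul_lt _ _) (mul_lt _ _) h3
  have k4 := psi_inj h (mul_lt _ _) (by norm_num : 0 < 128) hkk
  rcases model128 m hm k1 k2 k3 k4 with e | e | e | e | e | e | e | e
  · rw [e, psi_zero]; exact one_mem _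
  · rw [e]; exact x1
  · rw [e]; exact x2
  · rw [e, psi_mul h]; exact mul_mem x1 x2
  · rw [e]; exact x3
  · rw [e, psi_mul h]; exact mul_mem x1 x3
  · rw [e, psi_mul h]; exact mul_mem x2 x3
  · rw [e, psi_mul h, psi_mul h]; exact mul_mem (mul_mem x1 x2) x3

namespace NTri

variable {V : Subgroup G} {U C : G → Subgroup G} (h : NTri V U C) {p : G}

include h

/-- an involution centralising `U_p` is in `U_p` -/
theorem mem_U_of_K [Finite G] (hp : Pt V p) {k : G} (hk : k ∈ K U p) (hkk : k * k = 1) : k ∈ U p := by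
  have hkU : ∀ u ∈ U p, k * u = u * k := fun u hu => (mem_centralizer_iff.mp hk u hu).symm
  have hkV : k ∈ centralizer (V : Set G) := h.K_le_centV hp hk
  have hkS : k ∈ normalizer (V : Set G) ⊓ centralizer ({p} : Set G) :=
    ⟨h.centV_le_norm hkV, mem_centralizer_singleton_iff.mpr (mem_centralizer_iff.mp hkV p hp.1).symm⟩
  rcases h.exists_conf hp with ⟨A, B, u, s, x, hc, a1, a2, a3, a4, a5, a6⟩ |
    ⟨A, B, u, f, s, x, hc, a1, a2, a3, a4, a5, a6⟩
  · exact mem_of_conf64 hc hkS (hkU _ (h.V_le p hp a1)) (hkU _ (h.V_le p hp a2)) (hkU _ a6)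
      (h.V_le p hp a1) (h.V_le p hp a2) a6
  · exact mem_of_conf128 hc hkS (hkU _ (h.V_le p hp a1)) (hkU _ (h.V_le p hp a2)) (hkU _ a6) hkk
      (h.V_le p hp a1) (h.V_le p hp a2) a6

/-- `U_p` is generated by `V` and `V^f` -/
theorem exists_gen (hp : Pt V p) : ∃ f ∈ C p, Mov (U p) p f ∧ ∀ X : Subgroup G, V ≤ X →
    (∀ v ∈ V, f * v * f⁻¹ ∈ X) → U p ≤ X := by
  obtain ⟨f, hf, -, hfm⟩ := h.exists_odd hp
  obtain ⟨q, hq, hpq⟩ := h.exists_other hp
  refine ⟨f, hf, hfm, fun X hV hX u hu => ?_⟩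
  by_cases huV : u ∈ V
  · exact hV huV
  have h1 : f * q * f⁻¹ ∉ V := h.conj_notMem_V hp hq hpq hf hfm hq.1 (h.not_cg hq hpq)
  have h2 : f * q * f⁻¹ ∈ U p := h.conj_memU hp hf (h.p_mem hq hp)
  have h3 := h.mul_memV hp hu huV h2 h1
  have e : u = (u * (f * q * f⁻¹)) * (f * q * f⁻¹)⁻¹ := by group
  rw [e]
  exact mul_mem (hV h3) (inv_mem (hX q hq.1))

/-- (A13) -/
theorem centralizer_le_normU [Finite G] (hp : Pt V p)
    (hfull : ∀ c ∈ centralizer ({p} : Set G), ∀ v ∈ V, ∀ w ∈ V, c * v * c⁻¹ * w = w * (c * v * c⁻¹)) :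
    centralizer ({p} : Set G) ≤ normalizer (U p : Set G) := by
  obtain ⟨f, hf, hfm, hgen⟩ := h.exists_gen hp
  have hfc : f ∈ centralizer ({p} : Set G) := h.C_le p hp hf
  -- all conjugates of `V` in `C_G(p)` lie in `U_p`
  have key : ∀ c ∈ centralizer ({p} : Set G), ∀ v ∈ V, c * v * c⁻¹ ∈ U p := by
    intro c hc v hv
    refine h.mem_U_of_K hp (mem_centralizer_iff.mpr fun u hu => ?_) ?_
    · have h1 : U p ≤ centralizer ({c * v * c⁻¹} : Set G) := by
        refine hgen _ (fun w hw => mem_centralizer_singleton_iff.mpr (hfull c hc v hv w hw).symm)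
          fun w hw => mem_centralizer_singleton_iff.mpr ?_
        have h2 := hfull (f⁻¹ * c) (mul_mem (inv_mem hfc) hc) v hv w hw
        have e1 : f⁻¹ * c * v * (f⁻¹ * c)⁻¹ * w = f⁻¹ * (c * v * c⁻¹ * (f * w * f⁻¹)) * f := by group
        have e2 : w * (f⁻¹ * c * v * (f⁻¹ * c)⁻¹) = f⁻¹ * ((f * w * f⁻¹) * (c * v * c⁻¹)) * f := by group
        rw [e1, e2] at h2
        exact (mul_left_cancel (mul_right_cancel h2)).symm
      exact mem_centralizer_singleton_iff.mp (h1 hu)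
    · have e : c * v * c⁻¹ * (c * v * c⁻¹) = c * (v * v) * c⁻¹ := by group
      rw [e, h.sqV v hv]; group
  refine le_normalizer_of_forall fun c hc u hu => ?_
  have h1 : U p ≤ (U p).comap (MulAut.conj c).toMonoidHom := by
    refine hgen _ (fun v hv => key c hc v hv) fun v hv => ?_
    have := key (c * f) (mul_mem hc hfc) v hv
    have e : c * f * v * (c * f)⁻¹ = c * (f * v * f⁻¹) * c⁻¹ := by group
    rw [e] at this
    exact this
  exact h1 hu

end NTri

end Cfsg.Agent.Omega.NO3S.Fit.MTri
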